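import Mathlib.Algebra.Polynomial.OfFn
import Mathlib.Algebra.Polynomial.Div
import Mathlib.FieldTheory.IsAlgClosed.Basic

/-!
The coefficient vector of the product of a binary linear form with a binary form of degree `m`.
-/

namespace Groth.Agent.PLineProd

universe u v

variable {m : ℕ}

/-- The coefficients of `(s₀ + s₁ X) * ∑ t_j X^j`. -/
def conv {B : Type u} [CommRing B] (s : Fin 2 → B) (t : Fin (m + 1) → B) (k : Fin (m + 2)) : B :=
  s 0 * (Fin.snoc t 0 : Fin (m + 2) → B) k + s 1 * (Fin.cons 0 t : Fin (m + 2) → B) k

theorem conv_map {B : Type u} {B' : Type v} [CommRing B] [CommRing B'] (f : B →+* B')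
    (s : Fin 2 → B) (t : Fin (m + 1) → B) (k : Fin (m + 2)) :
    f (conv s t k) = conv (fun i => f (s i)) (fun j => f (t j)) k := by
  have h1 : f ((Fin.snoc t 0 : Fin (m + 2) → B) k) =
      (Fin.snoc (fun j => f (t j)) 0 : Fin (m + 2) → B') k := by
    induction k using Fin.lastCases with
    | last => simp
    | cast j => simp
  have h2 : f ((Fin.cons 0 t : Fin (m + 2) → B) k) =
      (Fin.cons 0 (fun j => f (t j)) : Fin (m + 2) → B') k := by
    induction k using Fin.cases with
    | zero => simp
    | succ j => simp
  simp [conv, h1, h2]

theorem conv_scale {B : Type u} [CommRing B] (c d : B) (s : Fin 2 → B) (t : Fin (m + 1) → B)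
    (k : Fin (m + 2)) :
    conv (fun i => c * s i) (fun j => d * t j) k = c * d * conv s t k := by
  have h1 : (Fin.snoc (fun j => d * t j) 0 : Fin (m + 2) → B) k =
      d * (Fin.snoc t 0 : Fin (m + 2) → B) k := by
    induction k using Fin.lastCases with
    | last => simp
    | cast j => simp
  have h2 : (Fin.cons 0 (fun j => d * t j) : Fin (m + 2) → B) k =
      d * (Fin.cons 0 t : Fin (m + 2) → B) k := by
    induction k using Fin.cases with
    | zero => simp
    | succ j => simp
  rw [conv, conv, h1, h2]
  ring

/-- The product of two binary forms in normalised coordinates is nonzero. -/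
theorem exists_conv_ne_zero {B : Type u} [CommRing B] [Nontrivial B] (s : Fin 2 → B)
    (t : Fin (m + 1) → B) (i : Fin 2) (j : Fin (m + 1)) (hi : s i = 1) (hj : t j = 1) :
    ∃ k, conv s t k ≠ 0 := by
  by_contra! h
  suffices ∀ l, t l = 0 from one_ne_zero (hj.symm.trans (this j))
  fin_cases i
  · intro l
    induction l using Fin.induction with
    | zero =>
      have := h (Fin.castSucc 0)
      rw [conv, Fin.snoc_castSucc, Fin.castSucc_zero, Fin.cons_zero] at this
      simp at hi
      simpa [hi] using this
    | succ l ih =>
      have := h (Fin.castSucc l.succ)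
      rw [conv, Fin.snoc_castSucc, Fin.castSucc_succ, Fin.cons_succ] at this
      simp at hi
      simpa [hi, ih] using this
  · intro l
    induction l using Fin.reverseInduction with
    | last =>
      have := h (Fin.last m).succ
      rw [conv, Fin.cons_succ, Fin.succ_last, Fin.snoc_last] at this
      simp at hi
      simpa [hi] using this
    | cast l ih =>
      have := h (l.castSucc).succ
      rw [conv, Fin.cons_succ, Fin.succ_castSucc, Fin.snoc_castSucc] at this
      simp at hi
      simpa [hi, ih] using this

open Polynomial in
/-- Over an algebraically closed field a nonzero binary form has a linear factor. -/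
theorem exists_conv_eq {K : Type u} [Field K] [IsAlgClosed K] (c : Fin (m + 2) → K) (hc : c ≠ 0) :
    ∃ (s : Fin 2 → K) (t : Fin (m + 1) → K), s ≠ 0 ∧ t ≠ 0 ∧ ∀ k, conv s t k = c k := by
  by_cases hl : c (Fin.last (m + 1)) = 0
  · refine ⟨![1, 0], fun j => c j.castSucc, ?_, ?_, fun k => ?_⟩
    · intro h; simpa using congrFun h 0
    · intro h
      refine hc (funext fun k => ?_)
      induction k using Fin.lastCases with
      | last => simpa using hl
      | cast j => simpa using congrFun h j
    · induction k using Fin.lastCases with
      | last => simp [conv, hl]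
      | cast j => simp [conv]
  · classical
    set F := ofFn (m + 2) c with hF
    have hcoef : ∀ k : Fin (m + 2), F.coeff k = c k := fun k => by
      rw [hF, ofFn_coeff_eq_val_of_lt c k.2]
    have hFd : F.natDegree = m + 1 := by
      refine le_antisymm (Nat.lt_succ_iff.1 (ofFn_natDegree_lt (by omega) c)) ?_
      refine le_natDegree_of_ne_zero ?_
      have := hcoef (Fin.last (m + 1))
      rw [Fin.val_last] at this
      rwa [this]
    obtain ⟨r, hr⟩ := IsAlgClosed.exists_root F (by
      intro h; rw [natDegree_eq_of_degree_eq_some (n := 0) h] at hFd; omega)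
    set G := F /ₘ (X - C r) with hG
    have hmul : (X - C r) * G = F := mul_divByMonic_eq_iff_isRoot.2 hr
    have hGd : G.natDegree = m := by
      rw [hG, natDegree_divByMonic _ (monic_X_sub_C r), hFd, natDegree_X_sub_C]
      rfl
    have key : ∀ k, conv ![-r, 1] (fun j : Fin (m + 1) => G.coeff j) k = c k := by
      intro k
      rw [← hcoef k, ← hmul, sub_mul, coeff_sub, coeff_C_mul]
      have h1 : ((Fin.snoc (fun j : Fin (m + 1) => G.coeff j) 0 : Fin (m + 2) → K)) k = G.coeff k := by
        induction k using Fin.lastCases with
        | last => simp [coeff_eq_zero_of_natDegree_lt (show G.natDegree < m + 1 by omega)]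
        | cast j => simp
      rw [conv, h1]
      induction k using Fin.cases with
      | zero => simp
      | succ j => simp [coeff_X_mul]; ring
    refine ⟨![-r, 1], fun j => G.coeff j, ?_, ?_, key⟩
    · intro h; simpa using congrFun h 1
    · intro h
      refine hc (funext fun k => ?_)
      rw [← key k, h]
      have e1 : (Fin.snoc (0 : Fin (m + 1) → K) 0 : Fin (m + 2) → K) k = 0 := by
        induction k using Fin.lastCases with
        | last => simp
        | cast j => simp
      have e2 : (Fin.cons 0 (0 : Fin (m + 1) → K) : Fin (m + 2) → K) k = 0 := by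
        induction k using Fin.cases with
        | zero => simp
        | succ j => simp
      simp [conv, e1, e2]

end Groth.Agent.PLineProd
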