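import Groth.Agent.Chow.Segre
import Groth.Agent.ProjProper.Basic
import Groth.Agent.PLineProd.Conv
import Mathlib.AlgebraicGeometry.Morphisms.Proper

/-!
The morphism `P¹ ×_R P^m ⟶ P^{m+1}` given by multiplication of binary forms: it is finite and
surjective.
-/

universe u

open CategoryTheory CategoryTheory.Limits AlgebraicGeometry MvPolynomial HomogeneousLocalization
open scoped TensorProduct

namespace Groth.Agent.PLineProd

open Groth.Agent.Chow (Pr str chart dh specHom away pt coords segreIdx segreEv segrePt Piece pieceι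
  pieceFst pieceSnd X_mem segre)

noncomputable section

attribute [local instance] Groth.Agent.Chow.awayAlgebra

theorem isUnit_of_basicOpen_eq_top {T : Scheme.{u}} (f : Γ(T, ⊤)) (h : T.basicOpen f = ⊤) :
    IsUnit f := by
  refine T.toRingedSpace.isUnit_of_isUnit_germ ⊤ f fun x hx => ?_
  have hx' : x ∈ T.basicOpen f := by rw [h]; exact TopologicalSpace.Opens.mem_top x
  exact (T.mem_basicOpen f x hx).1 hx'

theorem isUnit_appTop {T T' : Scheme.{u}} (g : T' ⟶ T) (f : Γ(T, ⊤))
    (h : g ⁻¹ᵁ T.basicOpen f = ⊤) : IsUnit (g.appTop f) :=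
  isUnit_of_basicOpen_eq_top _ ((Scheme.preimage_basicOpen_top g f).symm.trans h)

theorem isUnit_appTop_ι {T : Scheme.{u}} (f : Γ(T, ⊤)) :
    IsUnit ((T.basicOpen f).ι.appTop f) :=
  isUnit_appTop _ f (T.basicOpen f).ι_preimage_self

variable {m : ℕ} {R : Type u} [CommRing R]

section Ev

variable {B : Type u} [CommRing B]

/-- Coordinates of the product point. -/
def mulEv (p : MvPolynomial (Fin (1 + 1)) R →+* B) (q : MvPolynomial (Fin (m + 1)) R →+* B) :
    MvPolynomial (Fin (m + 1 + 1)) R →+* B :=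
  eval₂Hom (p.comp C) (conv (fun i => p (X i)) (fun j => q (X j)))

theorem mulEv_X (p : MvPolynomial (Fin (1 + 1)) R →+* B) (q : MvPolynomial (Fin (m + 1)) R →+* B)
    (k : Fin (m + 1 + 1)) :
    mulEv p q (X k) = conv (fun i => p (X i)) (fun j => q (X j)) k := by
  simp [mulEv]

theorem mulEv_comp_C (p : MvPolynomial (Fin (1 + 1)) R →+* B)
    (q : MvPolynomial (Fin (m + 1)) R →+* B) : (mulEv p q).comp C = p.comp C := by
  ext r; simp [mulEv]

/-- The linear form in the Segre coordinates giving the `k`-th coefficient of the product. -/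
def ell (m : ℕ) (R : Type u) [CommRing R] (k : Fin (m + 1 + 1)) :
    MvPolynomial (Fin (1 * m + 1 + m + 1)) R :=
  (Fin.snoc (fun t => X ((segreIdx 1 m).symm (0, t))) 0 : Fin (m + 2) → _) k +
    (Fin.cons 0 (fun t => X ((segreIdx 1 m).symm (1, t))) : Fin (m + 2) → _) k

theorem ell_mem (k : Fin (m + 1 + 1)) : ell m R k ∈ CohB1.polyGrading (1 * m + 1 + m) R 1 := by
  refine add_mem ?_ ?_
  · induction k using Fin.lastCases with
    | last => simp
    | cast j => simpa using X_mem _
  · induction k using Fin.cases with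
    | zero => simp
    | succ j => simpa using X_mem _

theorem segreEv_ell (p : MvPolynomial (Fin (1 + 1)) R →+* B)
    (q : MvPolynomial (Fin (m + 1)) R →+* B) (k : Fin (m + 1 + 1)) :
    segreEv p q (ell m R k) = conv (fun i => p (X i)) (fun j => q (X j)) k := by
  rw [ell, map_add, conv]
  congr 1
  · induction k using Fin.lastCases with
    | last => simp
    | cast j => simp [Chow.segreEv_X]
  · induction k using Fin.cases with
    | zero => simp
    | succ j => simp [Chow.segreEv_X]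

end Ev

variable {T : Scheme.{u}}

/-- The product of two points in charts. -/
def mulPt (i : Fin (1 + 1)) (j : Fin (m + 1)) (k : Fin (m + 1 + 1))
    (a : T ⟶ Spec (.of <| Away (CohB1.polyGrading 1 R) (X i)))
    (b : T ⟶ Spec (.of <| Away (CohB1.polyGrading m R) (X j)))
    (hu : IsUnit (mulEv (coords i a) (coords j b) (X k))) : T ⟶ Pr (m + 1) R :=
  pt (mulEv (coords i a) (coords j b)) (X k) (X_mem k) one_pos hu

theorem mulPt_congr (i : Fin (1 + 1)) (j : Fin (m + 1)) (k : Fin (m + 1 + 1))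
    {a a' : T ⟶ Spec (.of <| Away (CohB1.polyGrading 1 R) (X i))}
    {b b' : T ⟶ Spec (.of <| Away (CohB1.polyGrading m R) (X j))} (ha : a = a') (hb : b = b')
    (hu : IsUnit (mulEv (coords i a) (coords j b) (X k)))
    (hu' : IsUnit (mulEv (coords i a') (coords j b') (X k))) :
    mulPt i j k a b hu = mulPt i j k a' b' hu' := by
  subst ha hb
  rfl

theorem mulEv_comp {T' : Scheme.{u}} (g : T' ⟶ T) (i : Fin (1 + 1)) (j : Fin (m + 1))
    (a : T ⟶ Spec (.of <| Away (CohB1.polyGrading 1 R) (X i)))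
    (b : T ⟶ Spec (.of <| Away (CohB1.polyGrading m R) (X j))) :
    mulEv (coords i (g ≫ a)) (coords j (g ≫ b)) = g.appTop.hom.comp (mulEv (coords i a) (coords j b)) := by
  refine MvPolynomial.ringHom_ext (fun r => ?_) fun k => ?_
  · simp [mulEv, Chow.coords_comp]
  · simp only [mulEv_X, Chow.coords_comp, RingHom.comp_apply, conv_map]

theorem mulEv_comp_isUnit {T' : Scheme.{u}} (g : T' ⟶ T) (i : Fin (1 + 1)) (j : Fin (m + 1))
    (k : Fin (m + 1 + 1))
    (a : T ⟶ Spec (.of <| Away (CohB1.polyGrading 1 R) (X i)))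
    (b : T ⟶ Spec (.of <| Away (CohB1.polyGrading m R) (X j)))
    (hu : IsUnit (mulEv (coords i a) (coords j b) (X k))) :
    IsUnit (mulEv (coords i (g ≫ a)) (coords j (g ≫ b)) (X k)) := by
  rw [mulEv_comp]; exact hu.map g.appTop.hom

theorem comp_mulPt {T' : Scheme.{u}} (g : T' ⟶ T) (i : Fin (1 + 1)) (j : Fin (m + 1))
    (k : Fin (m + 1 + 1))
    (a : T ⟶ Spec (.of <| Away (CohB1.polyGrading 1 R) (X i)))
    (b : T ⟶ Spec (.of <| Away (CohB1.polyGrading m R) (X j)))
    (hu : IsUnit (mulEv (coords i a) (coords j b) (X k))) :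
    g ≫ mulPt i j k a b hu =
      mulPt i j k (g ≫ a) (g ≫ b) (mulEv_comp_isUnit g i j k a b hu) := by
  rw [mulPt, mulPt, Chow.comp_pt]
  exact Chow.pt_congr (mulEv_comp g i j a b).symm rfl rfl _ _ _ _ _ _

theorem mulPt_eq (i i' : Fin (1 + 1)) (j j' : Fin (m + 1)) (k k' : Fin (m + 1 + 1))
    (a : T ⟶ Spec (.of <| Away (CohB1.polyGrading 1 R) (X i)))
    (b : T ⟶ Spec (.of <| Away (CohB1.polyGrading m R) (X j)))
    (a' : T ⟶ Spec (.of <| Away (CohB1.polyGrading 1 R) (X i')))
    (b' : T ⟶ Spec (.of <| Away (CohB1.polyGrading m R) (X j')))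
    (hu : IsUnit (mulEv (coords i a) (coords j b) (X k)))
    (hu' : IsUnit (mulEv (coords i' a') (coords j' b') (X k')))
    (ha : a ≫ chart 1 R i = a' ≫ chart 1 R i') (hb : b ≫ chart m R j = b' ≫ chart m R j') :
    mulPt i j k a b hu = mulPt i' j' k' a' b' hu' := by
  obtain ⟨hρ, c, hc, hca⟩ := Chow.exists_scale i i' a a' ha
  obtain ⟨-, d, hd, hdb⟩ := Chow.exists_scale j j' b b' hb
  have hev : mulEv (coords i' a') (coords j' b') = eval₂Hom ((coords i a).comp C)
      (fun t => (c * d) * conv (fun x => coords i a (X x)) (fun y => coords j b (X y)) t) := by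
    simp only [mulEv, hρ, hca, hdb]
    congr 1
    ext t
    rw [conv_scale]
  have h : IsUnit (eval₂Hom ((coords i a).comp C)
      (fun t => (c * d) * conv (fun x => coords i a (X x)) (fun y => coords j b (X y)) t) (X k')) :=
    hev ▸ hu'
  have hu'' : IsUnit (mulEv (coords i a) (coords j b) (X k')) := by
    rw [mulEv_X]
    rw [eval₂Hom_X'] at h
    exact isUnit_of_mul_isUnit_right h
  rw [mulPt, Chow.pt_eq_of_isUnit _ (X_mem _) one_pos (X_mem k') one_pos _ hu'']
  symm
  rw [mulPt, Chow.pt_congr hev rfl rfl (X_mem _) one_pos _ (X_mem _) one_pos h]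
  exact Chow.pt_scale _ _ _ (hc.mul hd) _ _ hu'' _

section Glue

variable (m R)

/-- The index set of the cover used to define the product. -/
abbrev Idx : Type := (Fin (1 + 1) × Fin (m + 1)) × Fin (m + 1 + 1)

/-- The open part of a piece where the `k`-th coefficient of the product is invertible. -/
abbrev cOpen (x : Idx m) : (Piece 1 m R x.1).Opens :=
  (Piece 1 m R x.1).basicOpen
    (mulEv (coords x.1.1 (pieceFst 1 m R x.1)) (coords x.1.2 (pieceSnd 1 m R x.1)) (X x.2))

/-- The inclusion of a member of the cover. -/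
abbrev vι (x : Idx m) : (cOpen m R x).toScheme ⟶ Chow.Prod 1 m R :=
  (cOpen m R x).ι ≫ pieceι 1 m R x.1

theorem exists_vι (z : Chow.Prod 1 m R) : ∃ (x : Idx m) (y : (cOpen m R x).toScheme), vι m R x y = z := by
  obtain ⟨ij, y, rfl⟩ := Chow.exists_piece 1 m R z
  obtain ⟨k, hk⟩ : ∃ k : Fin (m + 1 + 1), y ∈ cOpen m R (ij, k) := by
    let φ := (Piece 1 m R ij).evaluation ⊤ y (TopologicalSpace.Opens.mem_top y)
    obtain ⟨k, hk⟩ := exists_conv_ne_zero (fun s => φ (coords ij.1 (pieceFst 1 m R ij) (X s)))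
      (fun t => φ (coords ij.2 (pieceSnd 1 m R ij) (X t))) ij.1 ij.2
      (by rw [Chow.coords_self, map_one]) (by rw [Chow.coords_self, map_one])
    refine ⟨k, ?_⟩
    rw [← Scheme.evaluation_ne_zero_iff_mem_basicOpen _ _ (TopologicalSpace.Opens.mem_top y)]
    rw [mulEv_X]
    exact fun h => hk ((conv_map φ.hom _ _ k).symm.trans h)
  exact ⟨(ij, k), ⟨y, hk⟩, rfl⟩

/-- The cover used to define the product. -/
def mulCover : (Chow.Prod 1 m R).OpenCover :=
  Scheme.Cover.mkOfCovers (Idx m) (fun x => (cOpen m R x).toScheme) (vι m R)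
    (fun z => by
      obtain ⟨x, y, h⟩ := exists_vι m R z
      exact ⟨x, y, h⟩)
    (fun x => inferInstance)

theorem vι_isUnit (x : Idx m) :
    IsUnit (mulEv (coords x.1.1 ((cOpen m R x).ι ≫ pieceFst 1 m R x.1))
      (coords x.1.2 ((cOpen m R x).ι ≫ pieceSnd 1 m R x.1)) (X x.2)) := by
  rw [mulEv_comp]
  exact isUnit_appTop_ι _

/-- The product on a member of the cover. -/
abbrev mulPiece (x : Idx m) : (cOpen m R x).toScheme ⟶ Pr (m + 1) R :=
  mulPt x.1.1 x.1.2 x.2 ((cOpen m R x).ι ≫ pieceFst 1 m R x.1)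
    ((cOpen m R x).ι ≫ pieceSnd 1 m R x.1) (vι_isUnit m R x)

theorem vι_fst (x : Idx m) : vι m R x ≫ pullback.fst (str 1 R) (str m R) =
    ((cOpen m R x).ι ≫ pieceFst 1 m R x.1) ≫ chart 1 R x.1.1 := by
  rw [vι, Category.assoc, Chow.pieceι_fst, Category.assoc]

theorem vι_snd (x : Idx m) : vι m R x ≫ pullback.snd (str 1 R) (str m R) =
    ((cOpen m R x).ι ≫ pieceSnd 1 m R x.1) ≫ chart m R x.1.2 := by
  rw [vι, Category.assoc, Chow.pieceι_snd, Category.assoc]

/-- Multiplication of binary forms. -/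
def mul : Chow.Prod 1 m R ⟶ Pr (m + 1) R :=
  (mulCover m R).glueMorphisms (mulPiece m R) (fun (x y : Idx m) => by
    show pullback.fst (vι m R x) (vι m R y) ≫ mulPiece m R x =
      pullback.snd (vι m R x) (vι m R y) ≫ mulPiece m R y
    rw [comp_mulPt, comp_mulPt]
    have h := pullback.condition (f := vι m R x) (g := vι m R y)
    refine mulPt_eq _ _ _ _ _ _ _ _ _ _ _ _ ?_ ?_
    · simp only [Category.assoc]
      rw [← Category.assoc (cOpen m R x).ι, ← vι_fst, ← Category.assoc (cOpen m R y).ι, ← vι_fst,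
        ← Category.assoc, h, Category.assoc]
    · simp only [Category.assoc]
      rw [← Category.assoc (cOpen m R x).ι, ← vι_snd, ← Category.assoc (cOpen m R y).ι, ← vι_snd,
        ← Category.assoc, h, Category.assoc])

theorem vι_mul (x : Idx m) : vι m R x ≫ mul m R = mulPiece m R x :=
  (mulCover m R).ι_glueMorphisms _ _ x

theorem mul_str : mul m R ≫ str (m + 1) R = pullback.fst (str 1 R) (str m R) ≫ str 1 R := by
  refine (mulCover m R).hom_ext _ _ fun (x : Idx m) => ?_
  have mid : mulPiece m R x ≫ str (m + 1) R =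
      (((cOpen m R x).ι ≫ pieceFst 1 m R x.1) ≫ chart 1 R x.1.1) ≫ str 1 R := by
    rw [Chow.comp_chart_eq_pt, Chow.pt_toSpec]
    exact (Chow.pt_toSpec _ _ _ _).trans (by rw [mulEv_comp_C])
  have l := congrArg (fun f => f ≫ str (m + 1) R) (vι_mul m R x)
  have r := congrArg (fun f => f ≫ str 1 R) (vι_fst m R x)
  exact ((Category.assoc _ _ _).symm.trans (l.trans (mid.trans r.symm))).trans (Category.assoc _ _ _)

theorem mul_preimage (k : Fin (m + 1 + 1)) :
    mul m R ⁻¹ᵁ Proj.basicOpen (CohB1.polyGrading (m + 1) R) (X k) =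
      segre 1 m R ⁻¹ᵁ Proj.basicOpen (CohB1.polyGrading (1 * m + 1 + m) R) (ell m R k) := by
  refine TopologicalSpace.Opens.ext (Set.ext fun z => ?_)
  obtain ⟨x, y, rfl⟩ := exists_vι m R z
  have h1 : (vι m R x ≫ mul m R) ⁻¹ᵁ Proj.basicOpen (CohB1.polyGrading (m + 1) R) (X k) =
      (vι m R x ≫ segre 1 m R) ⁻¹ᵁ
        Proj.basicOpen (CohB1.polyGrading (1 * m + 1 + m) R) (ell m R k) := by
    rw [vι_mul, mulPiece, mulPt, Chow.pt_preimage_basicOpen _ (X_mem _) (X_mem _), mulEv_X,
      vι, Category.assoc, Chow.pieceι_segre, Chow.segrePiece, Chow.comp_segrePt, segrePt,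
      Chow.pt_preimage_basicOpen _ (X_mem _) (ell_mem _), segreEv_ell]
  exact (SetLike.ext_iff.1 h1) y

instance isAffineHom_mul : IsAffineHom (mul m R) := by
  refine isAffineHom_of_forall_exists_isAffineOpen _ fun z => ?_
  obtain ⟨k, hk⟩ := Chow.exists_mem_chart R z
  refine ⟨_, hk, Proj.isAffineOpen_basicOpen _ _ (X_mem k) one_pos, ?_⟩
  rw [mul_preimage]
  exact (Proj.isAffineOpen_basicOpen _ _ (ell_mem k) one_pos).preimage (segre 1 m R)

instance isFinite_mul : IsFinite (mul m R) := by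
  refine IsFinite.iff_isProper_and_isAffineHom.2 ⟨?_, inferInstance⟩
  have := ProjProper.Basic.isProper_toSpec 1 R
  have := ProjProper.Basic.isProper_toSpec m R
  have h1 : IsProper (str 1 R) := by assumption
  have h2 : IsProper (str m R) := by assumption
  have h : IsProper (mul m R ≫ str (m + 1) R) := by
    rw [mul_str]; infer_instance
  have h3 : IsProper (str (m + 1) R) := ProjProper.Basic.isProper_toSpec (m + 1) R
  exact IsProper.of_comp (mul m R) (str (m + 1) R)

/-- Evaluation of `mul` at a pair of points lying in charts. -/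
theorem lift_mul (i : Fin (1 + 1)) (j : Fin (m + 1)) (k : Fin (m + 1 + 1))
    (a : T ⟶ Spec (.of <| Away (CohB1.polyGrading 1 R) (X i)))
    (b : T ⟶ Spec (.of <| Away (CohB1.polyGrading m R) (X j)))
    (w : (a ≫ chart 1 R i) ≫ str 1 R = (b ≫ chart m R j) ≫ str m R)
    (hu : IsUnit (mulEv (coords i a) (coords j b) (X k))) :
    pullback.lift (a ≫ chart 1 R i) (b ≫ chart m R j) w ≫ mul m R = mulPt i j k a b hu := by
  set p := pullback.lift (a ≫ chart 1 R i) (b ≫ chart m R j) w
  have hr : Set.range p ⊆ Set.range (pieceι 1 m R (i, j)) := by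
    rintro _ ⟨t, rfl⟩
    rw [Chow.range_pieceι]
    refine ⟨?_, ?_⟩
    · show pullback.fst (str 1 R) (str m R) (p t) ∈ Proj.basicOpen _ (X i)
      rw [← Scheme.Hom.comp_apply, pullback.lift_fst,
        ← Proj.opensRange_awayι (CohB1.polyGrading 1 R) (X i) (X_mem i) one_pos]
      exact ⟨a t, rfl⟩
    · show pullback.snd (str 1 R) (str m R) (p t) ∈ Proj.basicOpen _ (X j)
      rw [← Scheme.Hom.comp_apply, pullback.lift_snd,
        ← Proj.opensRange_awayι (CohB1.polyGrading m R) (X j) (X_mem j) one_pos]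
      exact ⟨b t, rfl⟩
  set y := IsOpenImmersion.lift (pieceι 1 m R (i, j)) p hr
  have hy : y ≫ pieceι 1 m R (i, j) = p := IsOpenImmersion.lift_fac _ _ _
  have ha : y ≫ pieceFst 1 m R (i, j) = a := by
    rw [← cancel_mono (chart 1 R i), Category.assoc, ← Chow.pieceι_fst 1 m R (i, j), ← Category.assoc,
      hy, pullback.lift_fst]
  have hb : y ≫ pieceSnd 1 m R (i, j) = b := by
    rw [← cancel_mono (chart m R j), Category.assoc, ← Chow.pieceι_snd 1 m R (i, j), ← Category.assoc,
      hy, pullback.lift_snd]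
  have hU : Set.range y ⊆ Set.range (cOpen m R ((i, j), k)).ι := by
    have h : y ⁻¹ᵁ cOpen m R ((i, j), k) = ⊤ := by
      rw [cOpen, Scheme.preimage_basicOpen_top]
      refine Scheme.basicOpen_of_isUnit _ ?_
      have := mulEv_comp y i j (pieceFst 1 m R (i, j)) (pieceSnd 1 m R (i, j))
      rw [ha, hb] at this
      rw [this] at hu
      exact hu
    rw [Scheme.Opens.range_ι]
    rintro _ ⟨t, rfl⟩
    exact h.ge (TopologicalSpace.Opens.mem_top t)
  set z := IsOpenImmersion.lift (cOpen m R ((i, j), k)).ι y hU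
  have hz : z ≫ (cOpen m R ((i, j), k)).ι = y := IsOpenImmersion.lift_fac _ _ _
  have hp : z ≫ vι m R ((i, j), k) = p := by rw [vι, ← Category.assoc, hz, hy]
  rw [← hp, Category.assoc, vι_mul, mulPiece, comp_mulPt]
  exact mulPt_congr i j k (by rw [← Category.assoc, hz, ha]) (by rw [← Category.assoc, hz, hb]) _ _

end Glue

section Surjective

variable (m R)

/-- A point of a chart with given normalised coordinates. -/
theorem exists_chart_point {n : ℕ} (i : Fin (n + 1)) (ρ : R →+* Γ(T, ⊤)) (v : Fin (n + 1) → Γ(T, ⊤))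
    (hv : v i = 1) :
    ∃ a : T ⟶ Spec (.of <| Away (CohB1.polyGrading n R) (X i)), coords i a = eval₂Hom ρ v := by
  have h1 : eval₂Hom ρ v (X i) = 1 := by simpa using hv
  have hu : IsUnit (eval₂Hom ρ v (X i)) := h1 ▸ isUnit_one
  refine ⟨T.toSpecΓ ≫ Spec.map (CommRingCat.ofHom (away (eval₂Hom ρ v) (X i) hu)), ?_⟩
  unfold Groth.Agent.Chow.coords
  have h2 := Chow.specHom_toSpecΓ (T := T) (C := CommRingCat.of (Away (CohB1.polyGrading n R) (X i)))
    (away (eval₂Hom ρ v) (X i) hu)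
  exact (congrArg (fun φ => φ.comp (dh n R i)) h2).trans (Chow.away_dh _ i hu h1)

instance surjective_mul : Surjective (mul m R) := by
  refine ⟨fun z => ?_⟩
  let κ := (Pr (m + 1) R).residueField z
  let K := AlgebraicClosure κ
  let q : Spec (.of K) ⟶ Pr (m + 1) R :=
    Spec.map (CommRingCat.ofHom (algebraMap κ K)) ≫ (Pr (m + 1) R).fromSpecResidueField z
  have hq : ∀ t, q t = z := fun t => Scheme.fromSpecResidueField_apply (X := Pr (m + 1) R) z _
  obtain ⟨k, hk⟩ := Chow.exists_mem_chart R z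
  obtain ⟨a, ha⟩ : ∃ a, a ≫ chart (m + 1) R k = q := by
    refine ⟨IsOpenImmersion.lift (chart (m + 1) R k) q ?_, IsOpenImmersion.lift_fac _ _ _⟩
    rintro _ ⟨t, rfl⟩
    rw [hq t]
    rwa [← Proj.opensRange_awayι (CohB1.polyGrading (m + 1) R) (X k) (X_mem k) one_pos] at hk
  set e := (Scheme.ΓSpecIso (CommRingCat.of K))
  let ι : K →+* Γ(Spec (.of K), ⊤) := e.inv.hom
  let c : Fin (m + 1 + 1) → K := fun x => e.hom (coords k a (X x))
  have hιc : ∀ x, ι (c x) = coords k a (X x) := fun x => e.hom_inv_id_apply _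
  have hc : c ≠ 0 := fun h => by
    have := congrFun h k
    simp [c, Chow.coords_self] at this
  obtain ⟨s, t, hs, ht, hst⟩ := exists_conv_eq c hc
  obtain ⟨i, hi⟩ : ∃ i, s i ≠ 0 := Function.ne_iff.1 hs
  obtain ⟨j, hj⟩ : ∃ j, t j ≠ 0 := Function.ne_iff.1 ht
  let ρ := (coords k a).comp C
  obtain ⟨a₁, ha₁⟩ := exists_chart_point R i ρ (fun x => ι ((s i)⁻¹ * s x))
    (by rw [inv_mul_cancel₀ hi, map_one])
  obtain ⟨b₁, hb₁⟩ := exists_chart_point R j ρ (fun x => ι ((t j)⁻¹ * t x))
    (by rw [inv_mul_cancel₀ hj, map_one])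
  have w : (a₁ ≫ chart 1 R i) ≫ str 1 R = (b₁ ≫ chart m R j) ≫ str m R := by
    rw [Chow.comp_chart_eq_pt, Chow.pt_toSpec, Chow.comp_chart_eq_pt, Chow.pt_toSpec, ha₁, hb₁]
    congr 3
    ext r
    simp
  have hunit : IsUnit (ι ((s i)⁻¹ * (t j)⁻¹)) := (IsUnit.mk0 _ (by simp [hi, hj])).map ι
  have hev : mulEv (coords i a₁) (coords j b₁) =
      eval₂Hom ρ (fun x => ι ((s i)⁻¹ * (t j)⁻¹) * coords k a (X x)) := by
    refine MvPolynomial.ringHom_ext (fun r => ?_) fun x => ?_
    · simp [mulEv, ha₁]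
    · rw [mulEv_X, ha₁, hb₁]
      simp only [eval₂Hom_X']
      rw [← conv_map ι (fun y => (s i)⁻¹ * s y) (fun y => (t j)⁻¹ * t y), conv_scale, hst, map_mul, hιc]
  have hek : coords k a = eval₂Hom ρ (fun x => coords k a (X x)) :=
    MvPolynomial.ringHom_ext (fun r => by simp [ρ]) fun x => by simp
  have hu₀ : IsUnit (eval₂Hom ρ (fun x => coords k a (X x)) (X k)) := by
    rw [← hek, Chow.coords_self]; exact isUnit_one
  have hu : IsUnit (mulEv (coords i a₁) (coords j b₁) (X k)) := by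
    rw [hev, eval₂Hom_X', Chow.coords_self, mul_one]; exact hunit
  have hmain : pullback.lift (a₁ ≫ chart 1 R i) (b₁ ≫ chart m R j) w ≫ mul m R = q := by
    rw [lift_mul m R i j k a₁ b₁ w hu, ← ha, Chow.comp_chart_eq_pt, mulPt,
      Chow.pt_congr hev rfl rfl (X_mem _) one_pos _ (X_mem _) one_pos (hev ▸ hu),
      Chow.pt_scale _ _ _ hunit _ _ hu₀ _]
    exact Chow.pt_congr hek.symm rfl rfl _ _ _ _ _ _
  obtain ⟨t₀⟩ : Nonempty (Spec (CommRingCat.of K)) := inferInstance
  refine ⟨pullback.lift (a₁ ≫ chart 1 R i) (b₁ ≫ chart m R j) w t₀, ?_⟩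
  rw [← Scheme.Hom.comp_apply, hmain, hq]

end Surjective

end

end Groth.Agent.PLineProd
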