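import Groth.Agent.Chow.Base
import Groth.Agent.PLineProd.Mul
import Mathlib.CategoryTheory.Limits.Shapes.WidePullbacks

/-!
`(P¹_S)^n ⟶ P^n_S` over a base scheme, by induction on `n`.
-/

universe u

open CategoryTheory CategoryTheory.Limits AlgebraicGeometry MvPolynomial HomogeneousLocalization

namespace Groth.Agent.PLineProd

open Groth.Agent.Chow (Pr str chart dh scal pt mkPt toZ term X_mem C_mem prodStr prodIso)

noncomputable section

theorem surjective_scal_zero (R : Type u) [CommRing R] :
    Function.Surjective (scal 0 R (X 0)) := by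
  intro y
  obtain ⟨p, rfl⟩ := ZetaLib.dehom_surjective (CohB1.polyGrading 0 R) (X_mem 0) y
  show dh 0 R 0 p ∈ (scal 0 R (X 0)).range
  induction p using MvPolynomial.induction_on with
  | C r => exact ⟨r, (Chow.dh_C 0 r).symm⟩
  | add p q hp hq => rw [map_add]; exact add_mem hp hq
  | mul_X p i hp =>
    rw [map_mul]
    refine mul_mem hp ⟨1, ?_⟩
    have h : dh 0 R 0 (X i) = 1 := by
      rw [show i = 0 from Fin.fin_one_eq_zero i, dh, ZetaLib.dehom_of_mem _ _ (X_mem 0)]
      refine val_injective _ ?_
      simp [Localization.mk_self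
        ⟨(X 0 : MvPolynomial (Fin 1) R), Submonoid.mem_powers _⟩]
    rw [h, map_one]

theorem isClosedImmersion_str_zero (R : Type u) [CommRing R] : IsClosedImmersion (str 0 R) := by
  have hsurj : Surjective (chart 0 R 0) := ⟨fun z => by
    obtain ⟨i, hi⟩ := Chow.exists_mem_chart R z
    rw [show i = 0 from Fin.fin_one_eq_zero i,
      ← Proj.opensRange_awayι (CohB1.polyGrading 0 R) (X 0) (X_mem 0) one_pos] at hi
    exact hi⟩
  have : Epi (chart 0 R 0).base := (TopCat.epi_iff_surjective _).2 hsurj.surj
  have : IsIso (chart 0 R 0) := IsOpenImmersion.isIso _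
  have h1 : IsClosedImmersion (Spec.map (CommRingCat.ofHom (scal 0 R (X 0)))) :=
    IsClosedImmersion.spec_of_surjective _ (surjective_scal_zero R)
  have h2 : IsClosedImmersion (chart 0 R 0 ≫ str 0 R) := by
    have := Chow.chart_toSpec (X 0 : MvPolynomial (Fin (0 + 1)) R) (X_mem 0) one_pos
    exact this ▸ h1
  have h3 : str 0 R = inv (chart 0 R 0) ≫ (chart 0 R 0 ≫ str 0 R) := (IsIso.inv_hom_id_assoc _ _).symm
  rw [h3]
  infer_instance

variable (S : Scheme.{u})

/-- `P⁰_S` is `S`. -/
theorem exists_section_zero :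
    ∃ s : S ⟶ CohB1.ProjSpaceOver 0 S,
      s ≫ CohB1.ProjSpaceOver.toBase 0 S = 𝟙 S ∧ IsFinite s ∧ Surjective s := by
  let ev : MvPolynomial (Fin (0 + 1)) (ULift.{u} ℤ) →+* Γ(S, ⊤) :=
    eval₂Hom ((Chow.specHom (term S)) : (ULift.{u} ℤ) →+* _) (fun _ => 1)
  have hu : IsUnit (ev (X 0)) := by simp [ev]
  set s := mkPt S (pt ev (X 0) (X_mem 0) one_pos hu) (𝟙 S)
  have hs : s ≫ CohB1.ProjSpaceOver.toBase 0 S = 𝟙 S := Chow.mkPt_toBase S _ _
  have hc : IsClosedImmersion (CohB1.ProjSpaceOver.toBase 0 S) := by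
    have := isClosedImmersion_str_zero (ULift.{u} ℤ)
    exact IsClosedImmersion.isStableUnderBaseChange.of_isPullback
      (IsPullback.of_hasPullback (str 0 (ULift.{u} ℤ)) (term S)) this
  have : Mono (CohB1.ProjSpaceOver.toBase 0 S) := inferInstance
  have : IsIso s := ⟨CohB1.ProjSpaceOver.toBase 0 S, hs, by
    rw [← cancel_mono (CohB1.ProjSpaceOver.toBase 0 S), Category.assoc, hs, Category.comp_id,
      Category.id_comp]⟩
  exact ⟨s, hs, inferInstance, inferInstance⟩

/-- The empty fibre product over `S` is `S`. -/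
theorem isIso_base_zero :
    IsIso (WidePullback.base (fun _ : Fin 0 => CohB1.ProjSpaceOver.toBase 1 S)) := by
  refine ⟨WidePullback.lift (𝟙 S) (fun i => i.elim0) (fun i => i.elim0), ?_, ?_⟩
  · refine WidePullback.hom_ext _ _ _ (fun i => i.elim0) ?_
    rw [Category.assoc, WidePullback.lift_base, Category.comp_id, Category.id_comp]
  · rw [WidePullback.lift_base]

/-- The product of a point of `P¹_S` and a point of `P^m_S`. -/
theorem exists_mul_over (m : ℕ) :
    ∃ μ : pullback (CohB1.ProjSpaceOver.toBase 1 S) (CohB1.ProjSpaceOver.toBase m S) ⟶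
        CohB1.ProjSpaceOver (m + 1) S,
      IsFinite μ ∧ Surjective μ ∧ μ ≫ CohB1.ProjSpaceOver.toBase (m + 1) S =
        pullback.fst (CohB1.ProjSpaceOver.toBase 1 S) (CohB1.ProjSpaceOver.toBase m S) ≫
          CohB1.ProjSpaceOver.toBase 1 S := by
  let ψ : pullback (prodStr.{u} 1 m) (term S) ⟶ CohB1.ProjSpaceOver (m + 1) S :=
    mkPt S (pullback.fst (prodStr.{u} 1 m) (term S) ≫ mul m (ULift.{u} ℤ))
      (pullback.snd (prodStr.{u} 1 m) (term S))
  have h1 : IsFinite ψ := MorphismProperty.pullbackMap (P := @IsFinite)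
    (f := prodStr.{u} 1 m) (g := term S) (f' := str (m + 1) (ULift.{u} ℤ)) (g' := term S)
    (i₁ := mul m (ULift.{u} ℤ)) (i₂ := 𝟙 S) inferInstance inferInstance
    (specULiftZIsTerminal.hom_ext _ _) (Category.id_comp _).symm
  have h2 : Surjective ψ := by
    have : MorphismProperty.IsStableUnderComposition @Surjective :=
      ⟨fun f g (_ : Surjective f) (_ : Surjective g) => inferInstance⟩
    exact MorphismProperty.pullbackMap (P := @Surjective)
      (f := prodStr.{u} 1 m) (g := term S) (f' := str (m + 1) (ULift.{u} ℤ)) (g' := term S)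
      (i₁ := mul m (ULift.{u} ℤ)) (i₂ := 𝟙 S) inferInstance inferInstance
      (specULiftZIsTerminal.hom_ext _ _) (Category.id_comp _).symm
  refine ⟨(prodIso S 1 m).hom ≫ ψ, inferInstance, inferInstance, ?_⟩
  rw [Category.assoc, Chow.mkPt_toBase]
  exact Chow.toProd_snd S 1 m

/-- Split off the first factor. -/
theorem exists_split {X : Scheme.{u}} (t : X ⟶ S) (n : ℕ) :
    ∃ e : widePullback S (fun _ : Fin (n + 1) => X) (fun _ => t) ⟶
        pullback t (WidePullback.base (fun _ : Fin n => t)),
      IsIso e ∧ e ≫ pullback.fst _ _ ≫ t = WidePullback.base (fun _ => t) := by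
  have hπ : ∀ i, WidePullback.π (fun _ : Fin (n + 1) => t) i ≫ t =
      WidePullback.base (fun _ : Fin (n + 1) => t) := fun i => WidePullback.π_arrow _ i
  let e := pullback.lift (f := t) (g := WidePullback.base (fun _ : Fin n => t))
    (WidePullback.π (fun _ : Fin (n + 1) => t) 0)
    (WidePullback.lift (WidePullback.base (fun _ : Fin (n + 1) => t))
      (fun i => WidePullback.π (fun _ : Fin (n + 1) => t) i.succ) (fun i => hπ _))
    (by rw [WidePullback.lift_base]; exact hπ 0)
  have he1 : e ≫ pullback.fst t (WidePullback.base (fun _ : Fin n => t)) =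
      WidePullback.π (fun _ : Fin (n + 1) => t) 0 := pullback.lift_fst _ _ _
  have he2 : ∀ i, (e ≫ pullback.snd t (WidePullback.base (fun _ : Fin n => t))) ≫
      WidePullback.π (fun _ : Fin n => t) i = WidePullback.π (fun _ : Fin (n + 1) => t) i.succ := by
    intro i
    rw [pullback.lift_snd, WidePullback.lift_π]
  let g := WidePullback.lift (arrows := fun _ : Fin (n + 1) => t)
    (pullback.fst t (WidePullback.base (fun _ : Fin n => t)) ≫ t)
    (Fin.cases (pullback.fst t (WidePullback.base (fun _ : Fin n => t)))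
      (fun i => pullback.snd t (WidePullback.base (fun _ : Fin n => t)) ≫
        WidePullback.π (fun _ : Fin n => t) i))
    (fun i => by
      induction i using Fin.cases with
      | zero => rfl
      | succ i =>
        simp only [Fin.cases_succ, Category.assoc, WidePullback.π_arrow]
        exact pullback.condition.symm)
  refine ⟨e, ⟨g, ?_, ?_⟩, ?_⟩
  · refine WidePullback.hom_ext _ _ _ (fun i => ?_) ?_
    · rw [Category.assoc, WidePullback.lift_π, Category.id_comp]
      induction i using Fin.cases with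
      | zero => exact he1
      | succ i => exact (Category.assoc _ _ _).symm.trans (he2 i)
    · rw [Category.assoc, WidePullback.lift_base, Category.id_comp, ← Category.assoc, he1]
      exact hπ 0
  · apply pullback.hom_ext
    · rw [Category.assoc, Category.id_comp, he1, WidePullback.lift_π]
      rfl
    · rw [Category.assoc, Category.id_comp]
      refine WidePullback.hom_ext _ _ _ (fun i => ?_) ?_
      · rw [Category.assoc, he2 i, WidePullback.lift_π]
        rfl
      · rw [pullback.lift_snd, Category.assoc, WidePullback.lift_base, WidePullback.lift_base]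
        exact pullback.condition
  · rw [← Category.assoc, he1]
    exact hπ 0

/-- The inductive step. -/
theorem exists_succ (n : ℕ)
    (φ : widePullback S (fun _ : Fin n => CohB1.ProjSpaceOver 1 S)
        (fun _ => CohB1.ProjSpaceOver.toBase 1 S) ⟶ CohB1.ProjSpaceOver n S)
    (h₁ : IsFinite φ) (h₂ : Surjective φ)
    (h₃ : φ ≫ CohB1.ProjSpaceOver.toBase n S = WidePullback.base (fun _ => CohB1.ProjSpaceOver.toBase 1 S)) :
    ∃ ψ : widePullback S (fun _ : Fin (n + 1) => CohB1.ProjSpaceOver 1 S)
        (fun _ => CohB1.ProjSpaceOver.toBase 1 S) ⟶ CohB1.ProjSpaceOver (n + 1) S,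
      IsFinite ψ ∧ Surjective ψ ∧
        ψ ≫ CohB1.ProjSpaceOver.toBase (n + 1) S =
          WidePullback.base (fun _ => CohB1.ProjSpaceOver.toBase 1 S) := by
  obtain ⟨e, he, heb⟩ := exists_split S (CohB1.ProjSpaceOver.toBase 1 S) n
  obtain ⟨μ, hμ₁, hμ₂, hμb⟩ := exists_mul_over S n
  let ν := pullback.map (CohB1.ProjSpaceOver.toBase 1 S)
    (WidePullback.base (fun _ : Fin n => CohB1.ProjSpaceOver.toBase 1 S))
    (CohB1.ProjSpaceOver.toBase 1 S) (CohB1.ProjSpaceOver.toBase n S) (𝟙 _) φ (𝟙 _)
    (by simp) (by simp [h₃])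
  have hν₁ : IsFinite ν := MorphismProperty.pullbackMap (P := @IsFinite)
    (inferInstance : IsFinite (𝟙 _)) h₁ (Category.id_comp _).symm h₃.symm
  have hν₂ : Surjective ν := by
    have : MorphismProperty.IsStableUnderComposition @Surjective :=
      ⟨fun f g (_ : Surjective f) (_ : Surjective g) => inferInstance⟩
    exact MorphismProperty.pullbackMap (P := @Surjective)
      (inferInstance : Surjective (𝟙 _)) h₂ (Category.id_comp _).symm h₃.symm
  refine ⟨e ≫ ν ≫ μ, inferInstance, inferInstance, ?_⟩
  rw [Category.assoc, Category.assoc, hμb, ← Category.assoc ν]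
  simp only [ν, pullback.lift_fst, Category.comp_id]
  exact heb

end

end Groth.Agent.PLineProd
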